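import Groth.Agent.Lib.Helper11.PullbackChart
import Groth.Agent.Lib.Helper49.QCohLocal

/-!
# Sections of the pullback of a quasi-coherent module over affine charts (helper16)
-/

set_option autoImplicit false
set_option linter.style.haveILetI false
universe u

open AlgebraicGeometry CategoryTheory TensorProduct Opposite

namespace Groth.Agent.Lib.Helper16

namespace FlatPull

open Groth.Agent.Lib.Helper11.PullbackChart Groth.Agent.Lib.Helper11 Groth.Agent.Lib.Helper49

variable {X Y : Scheme.{u}} (h : X ⟶ Y) {U : Y.Opens} (hU : IsAffineOpen U) {W : X.Opens}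
  (hW : IsAffineOpen W) (hWU : W ≤ h ⁻¹ᵁ U) (G : Y.Modules) [G.IsQuasicoherent]

/-- the pullback of `h^* G` to the affine chart `Spec Γ(X, W)` is a tilde -/
noncomputable def chartIso :
    (Scheme.Modules.pullback hW.fromSpec).obj ((Scheme.Modules.pullback h).obj G) ≅
      tilde ((ModuleCat.extendScalars (h.appLE U W hWU).hom).obj ((ΓU hU).obj G)) :=
  Arrow.leftFunc.mapIso (chartArrowIso h hU hW hWU (𝟙 G))

/-- sections over the chart, as an isomorphism of `Γ(X, W)`-modules -/
noncomputable def sectionsIso :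
    (ΓU hW).obj ((Scheme.Modules.pullback h).obj G) ≅
      (ModuleCat.extendScalars (h.appLE U W hWU).hom).obj ((ΓU hU).obj G) :=
  moduleSpecΓFunctor.mapIso
    ((Scheme.Modules.restrictFunctorIsoPullback hW.fromSpec).app _ ≪≫ chartIso h hU hW hWU G) ≪≫
    (tilde.toTildeΓNatIso.app _).symm

omit [G.IsQuasicoherent] in
/-- around any point there are affine charts adapted to `h` -/
theorem exists_charts (x : X) : ∃ (U : Y.Opens) (W : X.Opens), IsAffineOpen U ∧ IsAffineOpen W ∧
    W ≤ h ⁻¹ᵁ U ∧ x ∈ W := by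
  obtain ⟨U, hU, hxU, -⟩ := exists_isAffineOpen_mem_and_subset (x := h.base x) (U := ⊤) trivial
  obtain ⟨W, hW, hxW, hWU⟩ := exists_isAffineOpen_mem_and_subset (x := x) (U := h ⁻¹ᵁ U) hxU
  exact ⟨U, W, hU, hW, hWU, hxW⟩

/-- the pullback of a quasi-coherent module is quasi-coherent -/
theorem isQuasicoherent_pullback : ((Scheme.Modules.pullback h).obj G).IsQuasicoherent := by
  have : ∀ p : {p : Y.affineOpens × X.affineOpens // p.2.1 ≤ h ⁻¹ᵁ p.1.1},
      IsOpenImmersion (p.1.2.2.fromSpec) := fun p => IsAffineOpen.isOpenImmersion_fromSpec _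
  refine isQuasicoherent_of_forall_restrict _
    (ι := {p : Y.affineOpens × X.affineOpens // p.2.1 ≤ h ⁻¹ᵁ p.1.1})
    (fun p => Spec Γ(X, p.1.2.1)) (fun p => p.1.2.2.fromSpec) (fun x => ?_) (fun p => ?_)
  · obtain ⟨U, W, hU, hW, hWU, hxW⟩ := exists_charts h x
    refine ⟨⟨(⟨U, hU⟩, ⟨W, hW⟩), hWU⟩, ?_⟩
    rw [hW.range_fromSpec]
    exact hxW
  · exact isQuasicoherent_of_iso
      ((Scheme.Modules.restrictFunctorIsoPullback p.1.2.2.fromSpec).app _ ≪≫
        chartIso h p.1.1.2 p.1.2.2 p.2 G).symm inferInstance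

set_option backward.isDefEq.respectTransparency false in
/-- `extendScalars` is the tensor product (definitionally) -/
noncomputable def extEquiv {R S : Type u} [CommRing R] [CommRing S] (f : R →+* S)
    (M : ModuleCat.{u} R) :
    letI := f.toAlgebra
    ((ModuleCat.extendScalars f).obj M) ≃ₗ[S] (S ⊗[R] M) :=
  letI := f.toAlgebra
  LinearEquiv.refl S _

include hU hW in
/-- sections of `h^* G` over `W` are the base change of the sections of `G` over `U` -/
theorem exists_isBaseChange_sections :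
    letI := (h.appLE U W hWU).hom.toAlgebra
    letI : Module Γ(Y, U) Γ((Scheme.Modules.pullback h).obj G, W) :=
      Module.compHom _ (h.appLE U W hWU).hom
    haveI : IsScalarTower Γ(Y, U) Γ(X, W) Γ((Scheme.Modules.pullback h).obj G, W) :=
      IsScalarTower.of_compHom _ _ _
    ∃ f : Γ(G, U) →ₗ[Γ(Y, U)] Γ((Scheme.Modules.pullback h).obj G, W), IsBaseChange Γ(X, W) f := by
  letI := (h.appLE U W hWU).hom.toAlgebra
  letI : Module Γ(Y, U) Γ((Scheme.Modules.pullback h).obj G, W) :=
    Module.compHom _ (h.appLE U W hWU).hom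
  haveI : IsScalarTower Γ(Y, U) Γ(X, W) Γ((Scheme.Modules.pullback h).obj G, W) :=
    IsScalarTower.of_compHom _ _ _
  let eU := sectionsFromSpecTopEquiv hU G
  let eW := sectionsFromSpecTopEquiv hW ((Scheme.Modules.pullback h).obj G)
  let sI := (sectionsIso h hU hW hWU G).toLinearEquiv
  let e : Γ(X, W) ⊗[Γ(Y, U)] Γ(G, U) ≃ₗ[Γ(X, W)] Γ((Scheme.Modules.pullback h).obj G, W) :=
    (TensorProduct.AlgebraTensorModule.congr (LinearEquiv.refl Γ(X, W) Γ(X, W)) eU.symm) ≪≫ₗ
      (extEquiv (h.appLE U W hWU).hom ((ΓU hU).obj G)).symm ≪≫ₗ sI.symm ≪≫ₗ eW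
  let f : Γ(G, U) →ₗ[Γ(Y, U)] Γ((Scheme.Modules.pullback h).obj G, W) :=
    (e.toLinearMap.restrictScalars Γ(Y, U)).comp (TensorProduct.mk Γ(Y, U) Γ(X, W) Γ(G, U) 1)
  have he : ∀ x, e (1 ⊗ₜ x) = f x := fun x => by
    simp only [f, LinearMap.coe_comp, LinearMap.coe_restrictScalars, LinearEquiv.coe_coe,
      Function.comp_apply, TensorProduct.mk_apply]
  exact ⟨f, IsBaseChange.of_equiv e he⟩

end FlatPull

end Groth.Agent.Lib.Helper16
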