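import Groth.Agent.Lib.Helper16.FlatPull.Chart
import Groth.Agent.Lib.Helper45.QCohStalk

/-!
# The stalk of the pullback of a quasi-coherent module is the base change of the stalk (helper16)
-/

set_option autoImplicit false
set_option linter.style.haveILetI false
universe u

open AlgebraicGeometry CategoryTheory TensorProduct Opposite

namespace Groth.Agent.Lib.Helper16

namespace FlatPull

open Groth.Agent.Lib.Helper45

variable {X Y : Scheme.{u}} (h : X ⟶ Y) (G : Y.Modules) [G.IsQuasicoherent]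

/-- `(h^* G)_x = O_{X,x} ⊗_{O_{Y,h x}} G_{h x}`: there is an `O_{Y, h x}`-linear map
`G_{h x} → (h^* G)_x` exhibiting the target as the base change along the stalk map. -/
theorem exists_isBaseChange_stalk (x : X) :
    letI := (h.stalkMap x).hom.toAlgebra
    letI : Module (Y.presheaf.stalk (h.base x))
        (((Scheme.Modules.pullback h).obj G).presheaf.stalk x) :=
      FlatMod.moduleStalkOver h ((Scheme.Modules.pullback h).obj G) x
    haveI : IsScalarTower (Y.presheaf.stalk (h.base x)) (X.presheaf.stalk x)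
        (((Scheme.Modules.pullback h).obj G).presheaf.stalk x) := IsScalarTower.of_compHom _ _ _
    ∃ ψ : G.presheaf.stalk (h.base x) →ₗ[Y.presheaf.stalk (h.base x)]
        ((Scheme.Modules.pullback h).obj G).presheaf.stalk x,
      IsBaseChange (X.presheaf.stalk x) ψ := by
  obtain ⟨U, W, hU, hW, hWU, hxW⟩ := exists_charts h x
  have hyU : h.base x ∈ U := hWU hxW
  haveI hN : ((Scheme.Modules.pullback h).obj G).IsQuasicoherent := isQuasicoherent_pullback h G
  -- algebras
  letI algAB : Algebra Γ(Y, U) Γ(X, W) := (h.appLE U W hWU).hom.toAlgebra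
  letI algAA' : Algebra Γ(Y, U) (Y.presheaf.stalk (h.base x)) :=
    TopCat.Presheaf.algebra_section_stalk Y.presheaf (⟨h.base x, hyU⟩ : U)
  letI algBB' : Algebra Γ(X, W) (X.presheaf.stalk x) :=
    TopCat.Presheaf.algebra_section_stalk X.presheaf (⟨x, hxW⟩ : W)
  letI algA'B' : Algebra (Y.presheaf.stalk (h.base x)) (X.presheaf.stalk x) :=
    (h.stalkMap x).hom.toAlgebra
  letI algAB' : Algebra Γ(Y, U) (X.presheaf.stalk x) :=
    ((algebraMap Γ(X, W) (X.presheaf.stalk x)).comp (algebraMap Γ(Y, U) Γ(X, W))).toAlgebra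
  haveI tABB' : IsScalarTower Γ(Y, U) Γ(X, W) (X.presheaf.stalk x) :=
    IsScalarTower.of_algebraMap_eq (fun _ => rfl)
  have hcompat : ∀ a : Γ(Y, U), (h.stalkMap x).hom (algebraMap Γ(Y, U) (Y.presheaf.stalk (h.base x)) a) =
      algebraMap Γ(X, W) (X.presheaf.stalk x) (algebraMap Γ(Y, U) Γ(X, W) a) := by
    intro a
    change (h.stalkMap x).hom (Y.presheaf.germ U (h.base x) hyU a) = _
    rw [Scheme.Hom.germ_stalkMap_apply]
    simp only [RingHom.algebraMap_toAlgebra, Scheme.Hom.appLE, homOfLE_leOfHom,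
      CommRingCat.hom_comp, RingHom.coe_comp, Function.comp_apply]
    change _ = X.presheaf.germ W x hxW _
    rw [X.presheaf.germ_res_apply]
  haveI tAA'B' : IsScalarTower Γ(Y, U) (Y.presheaf.stalk (h.base x)) (X.presheaf.stalk x) :=
    IsScalarTower.of_algebraMap_eq (fun a => (hcompat a).symm)
  -- module structures on `P = G_y`
  letI modAP : Module Γ(Y, U) (G.presheaf.stalk (h.base x)) :=
    stalkModuleSections G (⟨h.base x, hyU⟩ : U)
  haveI tAA'P : IsScalarTower Γ(Y, U) (Y.presheaf.stalk (h.base x))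
      (G.presheaf.stalk (h.base x)) := IsScalarTower.of_compHom _ _ _
  -- module structures on `NW = Γ(h^* G, W)`
  letI modANW : Module Γ(Y, U) Γ((Scheme.Modules.pullback h).obj G, W) :=
    Module.compHom _ (h.appLE U W hWU).hom
  haveI tABNW : IsScalarTower Γ(Y, U) Γ(X, W) Γ((Scheme.Modules.pullback h).obj G, W) :=
    IsScalarTower.of_compHom _ _ _
  -- module structures on `O = (h^* G)_x`
  letI modBO : Module Γ(X, W) (((Scheme.Modules.pullback h).obj G).presheaf.stalk x) :=
    stalkModuleSections ((Scheme.Modules.pullback h).obj G) (⟨x, hxW⟩ : W)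
  letI modA'O : Module (Y.presheaf.stalk (h.base x))
      (((Scheme.Modules.pullback h).obj G).presheaf.stalk x) :=
    FlatMod.moduleStalkOver h ((Scheme.Modules.pullback h).obj G) x
  letI modAO : Module Γ(Y, U) (((Scheme.Modules.pullback h).obj G).presheaf.stalk x) :=
    Module.compHom _ (algebraMap Γ(Y, U) (X.presheaf.stalk x))
  haveI tBB'O : IsScalarTower Γ(X, W) (X.presheaf.stalk x)
      (((Scheme.Modules.pullback h).obj G).presheaf.stalk x) := IsScalarTower.of_compHom _ _ _
  haveI tA'B'O : IsScalarTower (Y.presheaf.stalk (h.base x)) (X.presheaf.stalk x)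
      (((Scheme.Modules.pullback h).obj G).presheaf.stalk x) := IsScalarTower.of_compHom _ _ _
  haveI tAB'O : IsScalarTower Γ(Y, U) (X.presheaf.stalk x)
      (((Scheme.Modules.pullback h).obj G).presheaf.stalk x) := IsScalarTower.of_compHom _ _ _
  haveI tABO : IsScalarTower Γ(Y, U) Γ(X, W)
      (((Scheme.Modules.pullback h).obj G).presheaf.stalk x) := by
    refine IsScalarTower.of_algebraMap_smul fun a o => ?_
    change algebraMap Γ(X, W) (X.presheaf.stalk x) (algebraMap Γ(Y, U) Γ(X, W) a) • o =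
      algebraMap Γ(Y, U) (X.presheaf.stalk x) a • o
    rfl
  haveI tAA'O : IsScalarTower Γ(Y, U) (Y.presheaf.stalk (h.base x))
      (((Scheme.Modules.pullback h).obj G).presheaf.stalk x) := by
    refine IsScalarTower.of_algebraMap_smul fun a o => ?_
    change (h.stalkMap x).hom (algebraMap Γ(Y, U) (Y.presheaf.stalk (h.base x)) a) • o =
      algebraMap Γ(Y, U) (X.presheaf.stalk x) a • o
    rw [hcompat]
    rfl
  -- the three base changes
  obtain ⟨f₂, hf₂⟩ := exists_isBaseChange_sections h hU hW hWU G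
  haveI locA' : IsLocalization.AtPrime (Y.presheaf.stalk (h.base x))
      (hU.primeIdealOf (⟨h.base x, hyU⟩ : U)).asIdeal :=
    hU.isLocalization_stalk (⟨h.base x, hyU⟩ : U)
  haveI locB' : IsLocalization.AtPrime (X.presheaf.stalk x)
      (hW.primeIdealOf (⟨x, hxW⟩ : W)).asIdeal :=
    hW.isLocalization_stalk (⟨x, hxW⟩ : W)
  have hf₁ : IsBaseChange (Y.presheaf.stalk (h.base x)) (germₗ G (⟨h.base x, hyU⟩ : U)) :=
    (isLocalizedModule_iff_isBaseChange (hU.primeIdealOf (⟨h.base x, hyU⟩ : U)).asIdeal.primeCompl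
      (Y.presheaf.stalk (h.base x)) _).mp (isLocalizedModule_germₗ hU G (⟨h.base x, hyU⟩ : U))
  have hf₃ : IsBaseChange (X.presheaf.stalk x)
      (germₗ ((Scheme.Modules.pullback h).obj G) (⟨x, hxW⟩ : W)) :=
    (isLocalizedModule_iff_isBaseChange (hW.primeIdealOf (⟨x, hxW⟩ : W)).asIdeal.primeCompl
      (X.presheaf.stalk x) _).mp
      (isLocalizedModule_germₗ hW ((Scheme.Modules.pullback h).obj G) (⟨x, hxW⟩ : W))
  have hc := IsBaseChange.comp hf₂ hf₃
  refine ⟨hf₁.lift (((germₗ ((Scheme.Modules.pullback h).obj G)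
    (⟨x, hxW⟩ : W)).restrictScalars Γ(Y, U)).comp f₂), IsBaseChange.of_comp hf₁ ?_⟩
  have hl := hf₁.lift_comp (((germₗ ((Scheme.Modules.pullback h).obj G)
    (⟨x, hxW⟩ : W)).restrictScalars Γ(Y, U)).comp f₂)
  rw [hl]
  exact hc

end FlatPull

end Groth.Agent.Lib.Helper16
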