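import Groth.Agent.Lib.Helper16.FlatPull.Main
import Groth.Agent.Lib.Helper12.FlatOverSections

/-!
# Flatness over the base is stable under base change, at a point (helper16)
-/

set_option autoImplicit false
set_option linter.style.haveILetI false
universe u

open AlgebraicGeometry CategoryTheory TensorProduct Opposite TopologicalSpace

namespace Groth.Agent.Lib.Helper16

namespace FlatPull

open Groth.Agent.Lib.Helper45 Groth.Agent.Lib.Helper12.FlatOver

set_option backward.isDefEq.respectTransparency.types false in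
/-- EGA IV 2.1.4 (base change) at a point. -/
theorem isFlatOverAt_baseChange {X S X' S' : Scheme.{u}} (f : X ⟶ S) (f' : X' ⟶ S') (g' : X' ⟶ X)
    (g : S' ⟶ S) (hc : IsPullback g' f' f g) (F : X.Modules) [F.IsQuasicoherent] (x' : X')
    (h : FlatMod.IsFlatOverAt f F (g'.base x')) :
    FlatMod.IsFlatOverAt f' ((Scheme.Modules.pullback g').obj F) x' := by
  -- charts
  obtain ⟨V, hV, hxV, -⟩ := Opens.isBasis_iff_nbhd.mp S.isBasis_affineOpens
    (Opens.mem_top (f.base (g'.base x')))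
  obtain ⟨U, hU, hxU, eU⟩ := Opens.isBasis_iff_nbhd.mp X.isBasis_affineOpens
    (show g'.base x' ∈ f ⁻¹ᵁ V from hxV)
  have hgf : g.base (f'.base x') = f.base (g'.base x') := by
    rw [← Scheme.Hom.comp_apply, ← Scheme.Hom.comp_apply, hc.w]
  obtain ⟨V₁, hV₁, hxV₁, eV₁⟩ := Opens.isBasis_iff_nbhd.mp S'.isBasis_affineOpens
    (show f'.base x' ∈ g ⁻¹ᵁ V from by
      show g.base (f'.base x') ∈ V
      rw [hgf]; exact hxV)
  set W : X'.Opens := g' ⁻¹ᵁ U ⊓ f' ⁻¹ᵁ V₁ with hWdef
  have hxW : x' ∈ W := ⟨hxU, hxV₁⟩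
  have e1 : W ≤ g' ⁻¹ᵁ U := inf_le_left
  have e2 : W ≤ f' ⁻¹ᵁ V₁ := inf_le_right
  have hiso := isIso_pushoutSection_of_isAffineOpen hc eV₁ eU hWdef hV hV₁ hU
  have hpush := (isIso_pushoutSection_iff hc eV₁ eU hWdef).mp hiso
  have hW : IsAffineOpen W := by
    have : IsAffine (Scheme.Opens.toScheme V) := hV
    have : IsAffine (Scheme.Opens.toScheme V₁) := hV₁
    have : IsAffine (Scheme.Opens.toScheme U) := hU
    exact .of_isIso (Scheme.Hom.isPullback_resLE hc eV₁ eU hWdef).isoPullback.hom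
  haveI hN : ((Scheme.Modules.pullback g').obj F).IsQuasicoherent := isQuasicoherent_pullback g' F
  -- algebras between section rings
  letI algRA : Algebra Γ(S, V) Γ(X, U) := (f.appLE V U eU).hom.toAlgebra
  letI algRR₁ : Algebra Γ(S, V) Γ(S', V₁) := (g.appLE V V₁ eV₁).hom.toAlgebra
  letI algAB : Algebra Γ(X, U) Γ(X', W) := (g'.appLE U W e1).hom.toAlgebra
  letI algR₁B : Algebra Γ(S', V₁) Γ(X', W) := (f'.appLE V₁ W e2).hom.toAlgebra
  letI algRB : Algebra Γ(S, V) Γ(X', W) :=
    ((g'.appLE U W e1).hom.comp (f.appLE V U eU).hom).toAlgebra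
  haveI tRAB : IsScalarTower Γ(S, V) Γ(X, U) Γ(X', W) := .of_algebraMap_eq' rfl
  haveI tRR₁B : IsScalarTower Γ(S, V) Γ(S', V₁) Γ(X', W) :=
    .of_algebraMap_eq' congr($(hpush.w).hom)
  have hP : Algebra.IsPushout Γ(S, V) Γ(X, U) Γ(S', V₁) Γ(X', W) :=
    CommRingCat.isPushout_iff_isPushout.mp hpush
  haveI hP' : Algebra.IsPushout Γ(S, V) Γ(S', V₁) Γ(X, U) Γ(X', W) := hP.symm
  -- stalks
  letI algAA' : Algebra Γ(X, U) (X.presheaf.stalk (g'.base x')) :=
    TopCat.Presheaf.algebra_section_stalk X.presheaf (⟨g'.base x', hxU⟩ : U)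
  letI algBB' : Algebra Γ(X', W) (X'.presheaf.stalk x') :=
    TopCat.Presheaf.algebra_section_stalk X'.presheaf (⟨x', hxW⟩ : W)
  letI algA'B' : Algebra (X.presheaf.stalk (g'.base x')) (X'.presheaf.stalk x') :=
    (g'.stalkMap x').hom.toAlgebra
  letI algAB' : Algebra Γ(X, U) (X'.presheaf.stalk x') :=
    ((algebraMap Γ(X', W) (X'.presheaf.stalk x')).comp (algebraMap Γ(X, U) Γ(X', W))).toAlgebra
  letI algR₁B' : Algebra Γ(S', V₁) (X'.presheaf.stalk x') :=
    ((algebraMap Γ(X', W) (X'.presheaf.stalk x')).comp (f'.appLE V₁ W e2).hom).toAlgebra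
  haveI tABB' : IsScalarTower Γ(X, U) Γ(X', W) (X'.presheaf.stalk x') :=
    IsScalarTower.of_algebraMap_eq (fun _ => rfl)
  haveI tR₁BB' : IsScalarTower Γ(S', V₁) Γ(X', W) (X'.presheaf.stalk x') :=
    IsScalarTower.of_algebraMap_eq (fun _ => rfl)
  have hcompat : ∀ a : Γ(X, U),
      (g'.stalkMap x').hom (algebraMap Γ(X, U) (X.presheaf.stalk (g'.base x')) a) =
      algebraMap Γ(X', W) (X'.presheaf.stalk x') (algebraMap Γ(X, U) Γ(X', W) a) := by
    intro a
    change (g'.stalkMap x').hom (X.presheaf.germ U (g'.base x') hxU a) = _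
    rw [Scheme.Hom.germ_stalkMap_apply]
    simp only [RingHom.algebraMap_toAlgebra, Scheme.Hom.appLE, homOfLE_leOfHom,
      CommRingCat.hom_comp, RingHom.coe_comp, Function.comp_apply]
    change _ = X'.presheaf.germ W x' hxW _
    rw [X'.presheaf.germ_res_apply]
  haveI tAA'B' : IsScalarTower Γ(X, U) (X.presheaf.stalk (g'.base x')) (X'.presheaf.stalk x') :=
    IsScalarTower.of_algebraMap_eq (fun a => (hcompat a).symm)
  haveI locA' : IsLocalization.AtPrime (X.presheaf.stalk (g'.base x'))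
      (hU.primeIdealOf (⟨g'.base x', hxU⟩ : U)).asIdeal :=
    hU.isLocalization_stalk (⟨g'.base x', hxU⟩ : U)
  haveI locB' : IsLocalization.AtPrime (X'.presheaf.stalk x')
      (hW.primeIdealOf (⟨x', hxW⟩ : W)).asIdeal :=
    hW.isLocalization_stalk (⟨x', hxW⟩ : W)
  haveI flatBB' : Module.Flat Γ(X', W) (X'.presheaf.stalk x') :=
    IsLocalization.flat _ (hW.primeIdealOf (⟨x', hxW⟩ : W)).asIdeal.primeCompl
  -- modules on `P = F_x`
  letI modAP : Module Γ(X, U) (F.presheaf.stalk (g'.base x')) :=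
    stalkModuleSections F (⟨g'.base x', hxU⟩ : U)
  haveI tAA'P : IsScalarTower Γ(X, U) (X.presheaf.stalk (g'.base x'))
      (F.presheaf.stalk (g'.base x')) := IsScalarTower.of_compHom _ _ _
  letI modRP : Module Γ(S, V) (F.presheaf.stalk (g'.base x')) :=
    stalkModuleBase f F eU (⟨g'.base x', hxU⟩ : U)
  haveI tRAP : IsScalarTower Γ(S, V) Γ(X, U) (F.presheaf.stalk (g'.base x')) := by
    refine ⟨fun r s n => ?_⟩
    change algebraMap Γ(X, U) (X.presheaf.stalk (g'.base x')) (r • s) • n =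
      ((algebraMap Γ(X, U) (X.presheaf.stalk (g'.base x'))).comp (algebraMap Γ(S, V) Γ(X, U))) r •
        (algebraMap Γ(X, U) (X.presheaf.stalk (g'.base x')) s • n)
    rw [Algebra.smul_def, map_mul, mul_smul]
    rfl
  haveI flatP : Module.Flat Γ(S, V) (F.presheaf.stalk (g'.base x')) :=
    (isFlatOverAt_iff_flat_stalk f F hV eU (⟨g'.base x', hxU⟩ : U)).mp h
  -- modules on `O = (g'^* F)_{x'}`
  letI modA'O : Module (X.presheaf.stalk (g'.base x'))
      (((Scheme.Modules.pullback g').obj F).presheaf.stalk x') :=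
    FlatMod.moduleStalkOver g' ((Scheme.Modules.pullback g').obj F) x'
  haveI tA'B'O : IsScalarTower (X.presheaf.stalk (g'.base x')) (X'.presheaf.stalk x')
      (((Scheme.Modules.pullback g').obj F).presheaf.stalk x') := IsScalarTower.of_compHom _ _ _
  letI modBO : Module Γ(X', W) (((Scheme.Modules.pullback g').obj F).presheaf.stalk x') :=
    stalkModuleSections ((Scheme.Modules.pullback g').obj F) (⟨x', hxW⟩ : W)
  haveI tBB'O : IsScalarTower Γ(X', W) (X'.presheaf.stalk x')
      (((Scheme.Modules.pullback g').obj F).presheaf.stalk x') := IsScalarTower.of_compHom _ _ _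
  letI modAO : Module Γ(X, U) (((Scheme.Modules.pullback g').obj F).presheaf.stalk x') :=
    Module.compHom _ (algebraMap Γ(X, U) (X'.presheaf.stalk x'))
  haveI tABO : IsScalarTower Γ(X, U) Γ(X', W)
      (((Scheme.Modules.pullback g').obj F).presheaf.stalk x') := by
    refine IsScalarTower.of_algebraMap_smul fun a o => ?_
    change algebraMap Γ(X', W) (X'.presheaf.stalk x') (algebraMap Γ(X, U) Γ(X', W) a) • o =
      algebraMap Γ(X, U) (X'.presheaf.stalk x') a • o
    rfl
  haveI tAA'O : IsScalarTower Γ(X, U) (X.presheaf.stalk (g'.base x'))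
      (((Scheme.Modules.pullback g').obj F).presheaf.stalk x') := by
    refine IsScalarTower.of_algebraMap_smul fun a o => ?_
    change (g'.stalkMap x').hom (algebraMap Γ(X, U) (X.presheaf.stalk (g'.base x')) a) • o =
      algebraMap Γ(X, U) (X'.presheaf.stalk x') a • o
    rw [hcompat]
    rfl
  letI modR₁O : Module Γ(S', V₁) (((Scheme.Modules.pullback g').obj F).presheaf.stalk x') :=
    stalkModuleBase f' ((Scheme.Modules.pullback g').obj F) e2 (⟨x', hxW⟩ : W)
  haveI tR₁B'O : IsScalarTower Γ(S', V₁) (X'.presheaf.stalk x')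
      (((Scheme.Modules.pullback g').obj F).presheaf.stalk x') := IsScalarTower.of_compHom _ _ _
  obtain ⟨ψ, hψ⟩ := exists_isBaseChange_stalk g' F x'
  rw [isFlatOverAt_iff_flat_stalk f' ((Scheme.Modules.pullback g').obj F) hV₁ e2 (⟨x', hxW⟩ : W)]
  exact flat_of_isPushout_of_isBaseChange (R := Γ(S, V)) (R₁ := Γ(S', V₁)) (A := Γ(X, U))
    (B := Γ(X', W)) (hU.primeIdealOf (⟨g'.base x', hxU⟩ : U)).asIdeal.primeCompl hψ

end FlatPull

end Groth.Agent.Lib.Helper16
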