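import Mathlib

/-!
# Flatness over a base ring and base change of modules (helper16)

`R → A → B` rings, `P` an `A`-module, `O = B ⊗[A] P`:
* if `B` is flat over `A` and `P` is flat over `R` then `O` is flat over `R`;
* if `B` is faithfully flat over `A` and `O` is flat over `R` then `P` is flat over `R`.
-/

set_option autoImplicit false
set_option linter.style.haveILetI false
universe u

open TensorProduct

namespace Groth.Agent.Lib.Helper16

namespace FlatPull

section

variable {R A B : Type*} [CommRing R] [CommRing A] [CommRing B] [Algebra R A] [Algebra A B]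
  [Algebra R B] [IsScalarTower R A B]
variable {P : Type*} [AddCommGroup P] [Module R P] [Module A P] [IsScalarTower R A P]

/-- the comparison square for `assoc` -/
theorem assoc_lTensor {N Q : Type*} [AddCommMonoid N] [Module R N] [AddCommMonoid Q] [Module R Q]
    (ι : N →ₗ[R] Q) (z : (B ⊗[A] P) ⊗[R] N) :
    AlgebraTensorModule.assoc R A B B P Q (ι.lTensor (B ⊗[A] P) z) =
      (AlgebraTensorModule.lTensor A P ι).lTensor B (AlgebraTensorModule.assoc R A B B P N z) := by
  induction z using TensorProduct.induction_on with
  | zero => simp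
  | add x y hx hy => simp only [map_add, hx, hy]
  | tmul w n =>
    induction w using TensorProduct.induction_on with
    | zero => simp
    | add x y hx hy => simp only [add_tmul, map_add, hx, hy]
    | tmul b p => simp

variable (B P) in
theorem flat_tensor_of_flat [Module.Flat A B] [hP : Module.Flat R P] :
    Module.Flat R (B ⊗[A] P) := by
  rw [Module.Flat.iff_lTensor_injectiveₛ] at hP ⊢
  intro Q _ _ N
  have h1 : Function.Injective (AlgebraTensorModule.lTensor A P N.subtype) := hP N
  have h2 : Function.Injective ((AlgebraTensorModule.lTensor A P N.subtype).lTensor B) :=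
    Module.Flat.lTensor_preserves_injective_linearMap _ h1
  intro z₁ z₂ hz
  apply (AlgebraTensorModule.assoc R A B B P N).injective
  apply h2
  rw [← assoc_lTensor, ← assoc_lTensor, hz]

variable (B P) in
theorem flat_of_flat_tensor [Module.FaithfullyFlat A B] [hO : Module.Flat R (B ⊗[A] P)] :
    Module.Flat R P := by
  rw [Module.Flat.iff_lTensor_injectiveₛ] at hO ⊢
  intro Q _ _ N
  have h1 : Function.Injective (N.subtype.lTensor (B ⊗[A] P)) := hO N
  have h2 : Function.Injective ((AlgebraTensorModule.lTensor A P N.subtype).lTensor B) := by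
    intro z₁ z₂ hz
    obtain ⟨w₁, rfl⟩ := (AlgebraTensorModule.assoc R A B B P N).surjective z₁
    obtain ⟨w₂, rfl⟩ := (AlgebraTensorModule.assoc R A B B P N).surjective z₂
    rw [← assoc_lTensor, ← assoc_lTensor] at hz
    rw [h1 ((AlgebraTensorModule.assoc R A B B P Q).injective hz)]
  exact (Module.FaithfullyFlat.lTensor_injective_iff_injective A B
    (AlgebraTensorModule.lTensor A P N.subtype)).mp h2

variable {O : Type*} [AddCommGroup O] [Module R O] [Module A O] [Module B O]
  [IsScalarTower R A O] [IsScalarTower A B O] [IsScalarTower R B O]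

omit [IsScalarTower R A O] in
theorem flat_of_isBaseChange_of_flat {ψ : P →ₗ[A] O} (hψ : IsBaseChange B ψ) [Module.Flat A B]
    [Module.Flat R P] : Module.Flat R O := by
  haveI := flat_tensor_of_flat (R := R) (A := A) B P
  exact Module.Flat.of_linearEquiv (hψ.equiv.restrictScalars R).symm

omit [IsScalarTower R A O] in
theorem flat_of_isBaseChange_of_faithfullyFlat {ψ : P →ₗ[A] O} (hψ : IsBaseChange B ψ)
    [Module.FaithfullyFlat A B] [Module.Flat R O] : Module.Flat R P := by
  haveI : Module.Flat R (B ⊗[A] P) := Module.Flat.of_linearEquiv (hψ.equiv.restrictScalars R)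
  exact flat_of_flat_tensor (R := R) (A := A) B P

end

section BaseChange

variable {R R₁ A B A' B' : Type*} [CommRing R] [CommRing R₁] [CommRing A] [CommRing B]
  [CommRing A'] [CommRing B']
  [Algebra R R₁] [Algebra R A] [Algebra A B] [Algebra R₁ B] [Algebra R B]
  [IsScalarTower R A B] [IsScalarTower R R₁ B] [Algebra.IsPushout R R₁ A B]
  [Algebra A A'] [Algebra B B'] [Algebra A' B'] [Algebra A B'] [IsScalarTower A A' B']
  [IsScalarTower A B B'] [Algebra R₁ B'] [IsScalarTower R₁ B B']

/-- a module over a localization is its own localization -/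
theorem isLocalizedModule_id (T : Submonoid A) [IsLocalization T A'] (P : Type*) [AddCommGroup P]
    [Module A' P] [Module A P] [IsScalarTower A A' P] :
    IsLocalizedModule T (LinearMap.id : P →ₗ[A] P) := by
  refine ⟨?_, fun y => ⟨⟨y, 1⟩, by simp⟩, fun {x₁ x₂} h => ⟨1, by simpa using h⟩⟩
  intro t
  rw [Module.End.isUnit_iff]
  obtain ⟨u, hu⟩ := IsLocalization.map_units A' t
  refine ⟨fun a b hab => ?_, fun b => ⟨(↑u⁻¹ : A') • b, ?_⟩⟩
  · simp only [Module.algebraMap_end_apply] at hab
    rw [← algebraMap_smul A' (t : A) a, ← algebraMap_smul A' (t : A) b, ← hu] at hab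
    have := congrArg (fun z => (↑u⁻¹ : A') • z) hab
    simpa [smul_smul] using this
  · rw [Module.algebraMap_end_apply, ← algebraMap_smul A' (t : A), ← hu, smul_smul]
    simp

/-- flatness over the base is preserved by base change, in stalk form: `B = R₁ ⊗[R] A`, `A'` a
localization of `A`, `B'` flat over `B` and an `A'`-algebra, `O = B' ⊗[A'] P`; if `P` is `R`-flat
then `O` is `R₁`-flat. -/
theorem flat_of_isPushout_of_isBaseChange (T : Submonoid A) [IsLocalization T A']
    [Module.Flat B B']
    {P O : Type*} [AddCommGroup P] [Module A' P] [Module A P] [IsScalarTower A A' P] [Module R P]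
    [IsScalarTower R A P]
    [AddCommGroup O] [Module B' O] [Module A' O] [IsScalarTower A' B' O] [Module B O]
    [IsScalarTower B B' O] [Module A O] [IsScalarTower A A' O] [IsScalarTower A B O]
    [Module R₁ O] [IsScalarTower R₁ B' O]
    {ψ : P →ₗ[A'] O} (hψ : IsBaseChange B' ψ) [Module.Flat R P] : Module.Flat R₁ O := by
  haveI tAB'O : IsScalarTower A B' O := by
    refine IsScalarTower.of_algebraMap_smul fun a o => ?_
    rw [IsScalarTower.algebraMap_apply A A' B', algebraMap_smul, algebraMap_smul]
  -- step 1: `ψ` is also a base change over `A`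
  haveI := isLocalizedModule_id (A' := A') T P
  have hid : IsBaseChange A' (LinearMap.id : P →ₗ[A] P) :=
    (isLocalizedModule_iff_isBaseChange T A' _).mp inferInstance
  have h1 : IsBaseChange B' (ψ.restrictScalars A) := by
    have := IsBaseChange.comp hid hψ
    rwa [LinearMap.comp_id] at this
  -- step 2: `O` is the base change of `Z = B ⊗[A] P` along `B → B'`
  have hι : IsBaseChange B (TensorProduct.mk A B P 1) := TensorProduct.isBaseChange A P B
  have h2 : IsBaseChange B' (hι.lift (ψ.restrictScalars A)) := by
    refine IsBaseChange.of_comp hι ?_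
    rw [hι.lift_comp]
    exact h1
  -- step 3: `Z` is flat over `R₁`
  haveI : Module.Flat R₁ (B ⊗[A] P) :=
    Module.Flat.of_linearEquiv (Algebra.IsPushout.cancelBaseChange R R₁ A B P)
  -- step 4
  exact flat_of_isBaseChange_of_flat (R := R₁) (A := B) (B := B') h2

end BaseChange

end FlatPull

end Groth.Agent.Lib.Helper16
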