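import Groth.Agent.Lib.Helper16.FlatPull.Stalk
import Groth.Agent.Lib.Helper16.FlatPull.Alg

/-!
# Flatness over a base of a pullback along a morphism flat at a point (helper16)
-/

set_option autoImplicit false
set_option linter.style.haveILetI false
universe u

open AlgebraicGeometry CategoryTheory TensorProduct Opposite

namespace Groth.Agent.Lib.Helper16

namespace FlatPull

variable {X Y S : Scheme.{u}}

/-- EGA IV 2.1.4 at a point: if `h` is flat at `x`, then `G` is `S`-flat at `h x` iff `h^* G` is
`S`-flat at `x`. -/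
theorem isFlatOverAt_pullback_iff (h : X ⟶ Y) (q : Y ⟶ S) (G : Y.Modules) [G.IsQuasicoherent]
    (x : X) (hflat : (h.stalkMap x).hom.Flat) :
    FlatMod.IsFlatOverAt q G (h.base x) ↔
      FlatMod.IsFlatOverAt (h ≫ q) ((Scheme.Modules.pullback h).obj G) x := by
  letI algR'A' : Algebra (S.presheaf.stalk (q.base (h.base x))) (Y.presheaf.stalk (h.base x)) :=
    (q.stalkMap (h.base x)).hom.toAlgebra
  letI algA'B' : Algebra (Y.presheaf.stalk (h.base x)) (X.presheaf.stalk x) :=
    (h.stalkMap x).hom.toAlgebra
  letI algR'B' : Algebra (S.presheaf.stalk (q.base (h.base x))) (X.presheaf.stalk x) :=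
    ((h ≫ q).stalkMap x).hom.toAlgebra
  haveI tower : IsScalarTower (S.presheaf.stalk (q.base (h.base x)))
      (Y.presheaf.stalk (h.base x)) (X.presheaf.stalk x) := by
    refine IsScalarTower.of_algebraMap_eq fun r => ?_
    change ((h ≫ q).stalkMap x).hom r = (h.stalkMap x).hom ((q.stalkMap (h.base x)).hom r)
    rw [Scheme.Hom.stalkMap_comp]
    rfl
  -- modules
  letI modR'P : Module (S.presheaf.stalk (q.base (h.base x))) (G.presheaf.stalk (h.base x)) :=
    FlatMod.moduleStalkOver q G (h.base x)
  haveI tR'A'P : IsScalarTower (S.presheaf.stalk (q.base (h.base x)))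
      (Y.presheaf.stalk (h.base x)) (G.presheaf.stalk (h.base x)) := IsScalarTower.of_compHom _ _ _
  letI modA'O : Module (Y.presheaf.stalk (h.base x))
      (((Scheme.Modules.pullback h).obj G).presheaf.stalk x) :=
    FlatMod.moduleStalkOver h ((Scheme.Modules.pullback h).obj G) x
  haveI tA'B'O : IsScalarTower (Y.presheaf.stalk (h.base x)) (X.presheaf.stalk x)
      (((Scheme.Modules.pullback h).obj G).presheaf.stalk x) := IsScalarTower.of_compHom _ _ _
  letI modR'O : Module (S.presheaf.stalk (q.base (h.base x)))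
      (((Scheme.Modules.pullback h).obj G).presheaf.stalk x) :=
    FlatMod.moduleStalkOver (h ≫ q) ((Scheme.Modules.pullback h).obj G) x
  haveI tR'B'O : IsScalarTower (S.presheaf.stalk (q.base (h.base x))) (X.presheaf.stalk x)
      (((Scheme.Modules.pullback h).obj G).presheaf.stalk x) := IsScalarTower.of_compHom _ _ _
  haveI tR'A'O : IsScalarTower (S.presheaf.stalk (q.base (h.base x)))
      (Y.presheaf.stalk (h.base x)) (((Scheme.Modules.pullback h).obj G).presheaf.stalk x) := by
    refine IsScalarTower.of_algebraMap_smul fun r o => ?_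
    change (h.stalkMap x).hom ((q.stalkMap (h.base x)).hom r) • o =
      ((h ≫ q).stalkMap x).hom r • o
    rw [Scheme.Hom.stalkMap_comp]
    rfl
  obtain ⟨ψ, hψ⟩ := exists_isBaseChange_stalk h G x
  haveI hfl : Module.Flat (Y.presheaf.stalk (h.base x)) (X.presheaf.stalk x) := hflat
  haveI hloc : IsLocalHom (algebraMap (Y.presheaf.stalk (h.base x)) (X.presheaf.stalk x)) :=
    inferInstanceAs (IsLocalHom (h.stalkMap x).hom)
  haveI hffl : Module.FaithfullyFlat (Y.presheaf.stalk (h.base x)) (X.presheaf.stalk x) :=
    Module.FaithfullyFlat.of_flat_of_isLocalHom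
  constructor
  · intro hP
    haveI : Module.Flat (S.presheaf.stalk (q.base (h.base x))) (G.presheaf.stalk (h.base x)) := hP
    exact flat_of_isBaseChange_of_flat (R := S.presheaf.stalk (q.base (h.base x))) hψ
  · intro hO
    haveI : Module.Flat (S.presheaf.stalk (q.base (h.base x)))
      (((Scheme.Modules.pullback h).obj G).presheaf.stalk x) := hO
    exact flat_of_isBaseChange_of_faithfullyFlat (R := S.presheaf.stalk (q.base (h.base x))) hψ

/-- flatness over `S'` at `x` and flatness of `S' → S` at the image give flatness over `S` -/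
theorem isFlatOverAt_comp_of_flat (f : X ⟶ Y) (g : Y ⟶ S) (N : X.Modules) (x : X)
    (hg : (g.stalkMap (f.base x)).hom.Flat) (hN : FlatMod.IsFlatOverAt f N x) :
    FlatMod.IsFlatOverAt (f ≫ g) N x := by
  letI algRA : Algebra (S.presheaf.stalk (g.base (f.base x))) (Y.presheaf.stalk (f.base x)) :=
    (g.stalkMap (f.base x)).hom.toAlgebra
  letI modAN : Module (Y.presheaf.stalk (f.base x)) (N.presheaf.stalk x) :=
    FlatMod.moduleStalkOver f N x
  letI modRN : Module (S.presheaf.stalk (g.base (f.base x))) (N.presheaf.stalk x) :=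
    FlatMod.moduleStalkOver (f ≫ g) N x
  haveI : IsScalarTower (S.presheaf.stalk (g.base (f.base x))) (Y.presheaf.stalk (f.base x))
      (N.presheaf.stalk x) := by
    refine IsScalarTower.of_algebraMap_smul fun r o => ?_
    change (f.stalkMap x).hom ((g.stalkMap (f.base x)).hom r) • o =
      ((f ≫ g).stalkMap x).hom r • o
    rw [Scheme.Hom.stalkMap_comp]
    rfl
  haveI : Module.Flat (S.presheaf.stalk (g.base (f.base x))) (Y.presheaf.stalk (f.base x)) := hg
  haveI : Module.Flat (Y.presheaf.stalk (f.base x)) (N.presheaf.stalk x) := hN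
  exact Module.Flat.trans (S.presheaf.stalk (g.base (f.base x))) (Y.presheaf.stalk (f.base x))
    (N.presheaf.stalk x)

end FlatPull

end Groth.Agent.Lib.Helper16
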